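import Mathlib

/-!
# Degree bounds in cross characteristic from orbits on a pairing
-/

set_option autoImplicit false

namespace CfsgLib.KnownA.CrossChar

variable {F : Type*} [Field F] [Fintype F]

/-- In characteristic different from that of `F` the prime of `F` is non-zero. -/
theorem cast_card_ne_zero {K : Type*} [Field K] (hK : ringChar K ≠ ringChar F) :
    (Fintype.card F : K) ≠ 0 := by
  obtain ⟨p, hp⟩ := CharP.exists F
  obtain ⟨n, hprime, hn⟩ := FiniteField.card F p
  rw [hn, Nat.cast_pow]
  refine pow_ne_zero _ fun h0 => hK ?_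
  rw [ringChar.eq F p]
  rcases (Nat.dvd_prime hprime).1 ((ringChar.spec K p).1 h0) with h | h
  · exact absurd h CharP.ringChar_ne_one
  · exact h

/-- A non-trivial additive character with values in an algebraic closure. -/
theorem exists_addChar {K : Type*} [Field K] [IsAlgClosed K] (hcard : (Fintype.card F : K) ≠ 0) :
    ∃ ψ : AddChar F K, ψ 1 ≠ 1 := by
  have hne : NeZero ((Monoid.exponent (Multiplicative F) : ℕ) : K) := by
    refine ⟨fun h => hcard ?_⟩
    obtain ⟨c, hc⟩ := Monoid.exponent_dvd_iff_forall_pow_eq_one.2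
      (fun g : Multiplicative F => pow_card_eq_one (x := g))
    rw [← Fintype.card_multiplicative, hc, Nat.cast_mul, h, zero_mul]
  obtain ⟨φ, hφ⟩ := CommGroup.exists_apply_ne_one_of_hasEnoughRootsOfUnity (Multiplicative F) K
    (a := Multiplicative.ofAdd (1 : F)) (by
      intro h
      exact one_ne_zero (congrArg Multiplicative.toAdd h))
  refine ⟨⟨fun a => ((φ (Multiplicative.ofAdd a) : Kˣ) : K), by simp, fun a b => by simp⟩, ?_⟩
  exact fun h => hφ (Units.ext h)

variable {X : Type*} [AddCommGroup X] [Fintype X]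
  {G : Type*} [Group G] {K : Type*} [Field K] {V : Type*} [AddCommGroup V] [Module K V]

/-- The character attached to a vector by a pairing. -/
def pairChar (ψ : AddChar F K) (β : X →+ X →+ F) (y : X) : AddChar X K :=
  ψ.compAddMonoidHom (β y)

theorem pairChar_apply (ψ : AddChar F K) (β : X →+ X →+ F) (y a : X) :
    pairChar ψ β y a = ψ (β y a) := rfl

/-- The weight space of a character. -/
def weightSpace (ρ : Representation K G V) (u : X → G) (χ : AddChar X K) : Submodule K V where
  carrier := {v | ∀ a, ρ (u a) v = χ a • v}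
  add_mem' := fun {v w} hv hw a => by rw [map_add, hv a, hw a, smul_add]
  zero_mem' := fun a => by simp
  smul_mem' := fun c v hv a => by rw [map_smul, hv a, smul_comm]

theorem mem_weightSpace {ρ : Representation K G V} {u : X → G} {χ : AddChar X K} {v : V} :
    v ∈ weightSpace ρ u χ ↔ ∀ a, ρ (u a) v = χ a • v := Iff.rfl

/-- The orbit bound for a perfect pairing. -/
theorem orbit_bound [FiniteDimensional K V] (ρ : Representation K G V) (u : X → G)
    (hu : ∀ a b, u (a + b) = u a * u b) (hnt : ∃ a, ρ (u a) ≠ 1)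
    (hcard : (Fintype.card X : K) ≠ 0) (ψ : AddChar F K) (β : X →+ X →+ F)
    (hl : ∀ y : X, y ≠ 0 → ∃ a, ψ (β y a) ≠ 1) (hr : ∀ a : X, a ≠ 0 → ∃ y, ψ (β y a) ≠ 1) (B : ℕ)
    (horb : ∀ y : X, y ≠ 0 → ∃ S : Set X, B ≤ S.ncard ∧
      ∀ y' ∈ S, ∃ (l : G) (f : X → X), (∀ a, l * u a = u (f a) * l) ∧
        ∀ a, β y' a = β y (f a)) :
    B ≤ Module.finrank K V := by
  classical
  have hu0 : u 0 = 1 := by
    have h := hu 0 0
    rw [add_zero] at h
    exact mul_eq_left.1 h.symm
  let χ : X → AddChar X K := pairChar ψ β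
  have hsub : ∀ y a, χ y (-a) * χ y a = 1 := fun y a => by
    rw [← AddChar.map_add_eq_mul, neg_add_cancel, AddChar.map_zero_eq_one]
  have horth : ∀ b : X, ∑ y, χ y b = if b = 0 then (Fintype.card X : K) else 0 := by
    intro b
    split_ifs with hb
    · subst hb; simp
    · let φ : AddChar X K :=
        { toFun := fun y => ψ (β y b)
          map_zero_eq_one' := by simp
          map_add_eq_mul' := fun y z => by simp [AddChar.map_add_eq_mul] }
      have hφ : φ ≠ 0 := by
        obtain ⟨y, hy⟩ := hr b hb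
        exact AddChar.ne_zero_iff.2 ⟨y, hy⟩
      have := AddChar.sum_eq_ite φ
      rw [if_neg hφ] at this
      exact this
  have horth' : ∀ y, ∑ b, χ y b = if y = 0 then (Fintype.card X : K) else 0 := by
    intro y
    split_ifs with hy
    · subst hy; simp [χ, pairChar_apply]
    · have hne : χ y ≠ 0 := by
        obtain ⟨a, ha⟩ := hl y hy
        exact AddChar.ne_zero_iff.2 ⟨a, ha⟩
      have := AddChar.sum_eq_ite (χ y)
      rw [if_neg hne] at this
      exact this
  let Pr : X → Module.End K V := fun y =>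
    (Fintype.card X : K)⁻¹ • ∑ b, χ y (-b) • ρ (u b)
  have hPr : ∀ y v, Pr y v ∈ weightSpace ρ u (χ y) := by
    intro y v c
    simp only [Pr, LinearMap.smul_apply, map_smul, LinearMap.coe_sum, Finset.sum_apply, map_sum,
      Finset.smul_sum, smul_smul, ← Module.End.mul_apply, ← map_mul, ← hu]
    refine Fintype.sum_equiv (Equiv.addLeft c) _ _ fun b => ?_
    simp only [Equiv.coe_addLeft]
    congr 1
    rw [mul_left_comm (χ y c), ← AddChar.map_add_eq_mul (χ y) c]
    congr 2
    abel
  have hsum : ∀ v, ∑ y, Pr y v = v := by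
    intro v
    simp only [Pr, LinearMap.smul_apply, LinearMap.coe_sum, Finset.sum_apply, ← Finset.smul_sum]
    rw [Finset.sum_comm]
    simp only [← Finset.sum_smul, horth, neg_eq_zero]
    rw [Finset.sum_eq_single 0 (fun b _ hb => by simp [hb]) (by simp)]
    simp [hu0, smul_smul, inv_mul_cancel₀ hcard]
  obtain ⟨y, hy, v, hv, hv0⟩ : ∃ y, y ≠ 0 ∧ ∃ v, v ∈ weightSpace ρ u (χ y) ∧ v ≠ 0 := by
    by_contra hall
    push Not at hall
    obtain ⟨a, ha⟩ := hnt
    refine ha (LinearMap.ext fun v => ?_)
    have h : v = Pr 0 v := by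
      conv_lhs => rw [← hsum v]
      exact Finset.sum_eq_single 0 (fun y _ hy => hall y hy _ (hPr y v)) (by simp)
    rw [Module.End.one_apply, h, mem_weightSpace.1 (hPr 0 v) a]
    simp [χ, pairChar_apply]
  obtain ⟨S, hB, hS⟩ := horb y hy
  refine hB.trans ?_
  have hex : ∀ y' : S, ∃ w, w ∈ weightSpace ρ u (χ y') ∧ w ≠ 0 := by
    rintro ⟨y', hy'⟩
    obtain ⟨l, f, hlf, hf⟩ := hS y' hy'
    have hlu : ∀ a, u a * l⁻¹ = l⁻¹ * u (f a) := fun a => by
      rw [eq_inv_mul_iff_mul_eq, ← mul_assoc, hlf, mul_inv_cancel_right]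
    refine ⟨ρ l⁻¹ v, fun a => ?_, fun h => hv0 ?_⟩
    · rw [← Module.End.mul_apply, ← map_mul, hlu a, map_mul, Module.End.mul_apply,
        mem_weightSpace.1 hv (f a), map_smul]
      simp [χ, pairChar_apply, hf a]
    · have := congrArg (ρ l) h
      rwa [← Module.End.mul_apply, ← map_mul, mul_inv_cancel, map_one, Module.End.one_apply,
        map_zero] at this
  choose w hw hw0 using hex
  have hli : LinearIndependent K w := by
    refine (Fintype.linearIndependent_iff (R := K) (v := w)).2 fun g hg j => ?_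
    have h := congrArg (fun z => ∑ b, χ j (-b) • ρ (u b) z) hg
    simp only [map_sum, map_smul, Finset.smul_sum, map_zero, smul_zero, Finset.sum_const_zero,
      mem_weightSpace.1 (hw _) _, smul_smul] at h
    rw [Finset.sum_comm] at h
    simp only [← Finset.sum_smul] at h
    have key : ∀ i : S, ∑ b, χ j (-b) * (g i * χ i b) =
        if i = j then (Fintype.card X : K) * g i else 0 := by
      intro i
      have e : ∀ b, χ j (-b) * (g i * χ i b) = g i * χ ((i : X) - (j : X)) b := fun b => by
        have e2 : β ((i : X) - (j : X)) b = β (i : X) b + -(β (j : X) b) := by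
          rw [map_sub, AddMonoidHom.sub_apply, sub_eq_add_neg]
        simp only [χ, pairChar_apply, map_neg, e2, AddChar.map_add_eq_mul]
        ring
      simp only [e, ← Finset.mul_sum, horth', sub_eq_zero, Subtype.coe_inj]
      split_ifs <;> ring
    simp only [key, ite_smul, zero_smul, Finset.sum_ite_eq', Finset.mem_univ, if_true] at h
    rcases smul_eq_zero.1 h with h | h
    · exact (mul_eq_zero.1 h).resolve_left hcard
    · exact absurd h (hw0 j)
  have h := hli.fintype_card_le_finrank
  rwa [← Nat.card_eq_fintype_card, Nat.card_coe_set_eq] at h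

/-- A homomorphism into `GL_d(K)` as a representation over an algebraic closure. -/
noncomputable def closureRep {d : ℕ} (ρ : G →* GL (Fin d) K) :
    Representation (AlgebraicClosure K) G (Fin d → AlgebraicClosure K) :=
  (((Matrix.toLinAlgEquiv' : Matrix (Fin d) (Fin d) (AlgebraicClosure K) ≃ₐ[AlgebraicClosure K] _) :
      Matrix (Fin d) (Fin d) (AlgebraicClosure K) →*
        Module.End (AlgebraicClosure K) (Fin d → AlgebraicClosure K)).comp
    (Units.coeHom _)).comp
    ((Matrix.GeneralLinearGroup.map (algebraMap K (AlgebraicClosure K))).comp ρ)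

theorem closureRep_eq_one {d : ℕ} (ρ : G →* GL (Fin d) K) {g : G} (h : closureRep ρ g = 1) :
    ρ g = 1 := by
  have h1 : ((Matrix.GeneralLinearGroup.map (algebraMap K (AlgebraicClosure K)) (ρ g) :
      GL (Fin d) (AlgebraicClosure K)) : Matrix (Fin d) (Fin d) (AlgebraicClosure K)) = 1 :=
    Matrix.toLinAlgEquiv'.injective (h.trans (map_one _).symm)
  apply Units.ext
  ext i j
  have h2 := congrFun (congrFun h1 i) j
  rw [Matrix.GeneralLinearGroup.map_apply] at h2
  refine (algebraMap K (AlgebraicClosure K)).injective ?_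
  rw [h2]
  by_cases hij : i = j <;> simp [hij, Matrix.one_apply]

end CfsgLib.KnownA.CrossChar
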