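import Cfsg.Agent.Lib.KnownA.CrossChar.Basic
import Cfsg.Agent.Lib.KnownB.MinDeg.HermOrbit

/-!
# `SL_n(q)` in cross characteristic: degree at least `q^(n-1) - 1`
-/

set_option autoImplicit false

open Matrix

namespace CfsgLib.KnownA.CrossChar

variable {F : Type*} [Field F] [Fintype F] [DecidableEq F] {m : ℕ}

local notation "Idx" => Fin 1 ⊕ Fin m

/-- The translation part of the maximal parabolic. -/
def colU (a : Fin m → F) : SpecialLinearGroup Idx F :=
  ⟨fromBlocks 1 0 (Matrix.of fun i _ => a i) 1, by rw [det_fromBlocks_zero₁₂]; simp⟩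

theorem coe_colU (a : Fin m → F) :
    (colU a : Matrix Idx Idx F) = fromBlocks 1 0 (Matrix.of fun i _ => a i) 1 := rfl

theorem colU_add (a b : Fin m → F) : colU (a + b) = colU a * colU b := by
  apply Subtype.ext
  change (colU (a + b) : Matrix Idx Idx F) = (colU a : Matrix Idx Idx F) * (colU b : Matrix Idx Idx F)
  rw [coe_colU, coe_colU, coe_colU, fromBlocks_multiply]
  simp only [Matrix.one_mul, Matrix.mul_one, Matrix.mul_zero, Matrix.zero_mul, add_zero, zero_add]
  congr 1

/-- The Levi part. -/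
def colL (A : GL (Fin m) F) (hA : (A : Matrix (Fin m) (Fin m) F).det = 1) :
    SpecialLinearGroup Idx F :=
  ⟨fromBlocks 1 0 0 (A : Matrix (Fin m) (Fin m) F), by rw [det_fromBlocks_zero₁₂, hA]; simp⟩

theorem colL_colU (A : GL (Fin m) F) (hA : (A : Matrix (Fin m) (Fin m) F).det = 1) (a : Fin m → F) :
    colL A hA * colU a = colU ((A : Matrix (Fin m) (Fin m) F) *ᵥ a) * colL A hA := by
  apply Subtype.ext
  change fromBlocks 1 0 0 (A : Matrix (Fin m) (Fin m) F) * fromBlocks 1 0 _ 1 =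
    fromBlocks 1 0 _ 1 * fromBlocks 1 0 0 (A : Matrix (Fin m) (Fin m) F)
  rw [fromBlocks_multiply, fromBlocks_multiply]
  simp only [Matrix.one_mul, Matrix.mul_one, Matrix.mul_zero, Matrix.zero_mul, add_zero, zero_add]
  congr 1

theorem colU_not_mem_center (hm : 1 ≤ m) :
    ∃ a : Fin m → F, colU a ∉ Subgroup.center (SpecialLinearGroup Idx F) := by
  refine ⟨fun _ => 1, fun h => ?_⟩
  obtain ⟨r, -, hr⟩ := Matrix.SpecialLinearGroup.mem_center_iff.1 h
  have := congrFun (congrFun hr (Sum.inr ⟨0, hm⟩)) (Sum.inl 0)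
  simp [coe_colU, Matrix.scalar_apply] at this

theorem sl_bound (hm : 2 ≤ m) {K : Type*} [Field K] (hK : ringChar K ≠ ringChar F) {d : ℕ}
    (ρ : SpecialLinearGroup Idx F →* GL (Fin d) K)
    (hker : ρ.ker ≤ Subgroup.center (SpecialLinearGroup Idx F)) :
    Fintype.card F ^ m - 1 ≤ d := by
  have hK' : ringChar (AlgebraicClosure K) ≠ ringChar F := by
    have := ringChar.charP K
    have : CharP (AlgebraicClosure K) (ringChar K) :=
      charP_of_injective_algebraMap (algebraMap K (AlgebraicClosure K)).injective _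
    rwa [ringChar.eq (AlgebraicClosure K) (ringChar K)]
  have hcard := cast_card_ne_zero (F := F) hK'
  obtain ⟨ψ, hψ⟩ := exists_addChar (F := F) hcard
  let β : (Fin m → F) →+ (Fin m → F) →+ F :=
    AddMonoidHom.mk' (fun y => AddMonoidHom.mk' (fun a => y ⬝ᵥ a) (dotProduct_add y))
      (fun y z => AddMonoidHom.ext fun a => add_dotProduct y z a)
  have hnd : ∀ y : Fin m → F, y ≠ 0 → ∃ a, ψ (β y a) ≠ 1 := by
    intro y hy
    obtain ⟨i, hi⟩ := Function.ne_iff.1 hy
    refine ⟨Pi.single i (y i)⁻¹, ?_⟩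
    change ψ (y ⬝ᵥ Pi.single i (y i)⁻¹) ≠ 1
    rw [dotProduct_single, mul_inv_cancel₀ hi]
    exact hψ
  have h := orbit_bound (closureRep ρ) colU colU_add ?_ (by simpa using pow_ne_zero m hcard) ψ β
    hnd ?_ (Fintype.card F ^ m - 1) ?_
  · rwa [Module.finrank_fintype_fun_eq_card, Fintype.card_fin] at h
  · by_contra hc
    push Not at hc
    obtain ⟨a, ha⟩ := colU_not_mem_center (F := F) (m := m) (by omega)
    exact ha (hker (closureRep_eq_one ρ (hc a)))
  · intro a ha
    obtain ⟨y, hy⟩ := hnd a ha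
    refine ⟨y, ?_⟩
    change ψ (y ⬝ᵥ a) ≠ 1
    rw [dotProduct_comm]
    exact hy
  · intro y hy
    refine ⟨{z | z ≠ 0}, le_of_eq ?_, fun z hz => ?_⟩
    · rw [show {z : Fin m → F | z ≠ 0} = ({0}ᶜ : Set (Fin m → F)) from rfl, Set.ncard_compl,
        Set.ncard_singleton, Nat.card_eq_fintype_card, Fintype.card_fun, Fintype.card_fin]
    · obtain ⟨A, hA, hA'⟩ := CfsgLib.MinDeg.exists_det_one_mulVec hm hy hz
      have hdet : ((Matrix.GeneralLinearGroup.mkOfDetNeZero (A : Matrix (Fin m) (Fin m) F)ᵀ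
          (by rw [det_transpose, hA]; exact one_ne_zero) : GL (Fin m) F) :
            Matrix (Fin m) (Fin m) F).det = 1 := by
        change ((A : Matrix (Fin m) (Fin m) F)ᵀ).det = 1
        rw [det_transpose, hA]
      refine ⟨colL _ hdet, fun a => (A : Matrix (Fin m) (Fin m) F)ᵀ *ᵥ a,
        fun a => colL_colU _ hdet a, fun a => ?_⟩
      change z ⬝ᵥ a = y ⬝ᵥ ((A : Matrix (Fin m) (Fin m) F)ᵀ *ᵥ a)
      rw [Matrix.dotProduct_mulVec, Matrix.vecMul_transpose, hA']

/-- Changing the index type. -/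
def slReindex {ι κ : Type*} [Fintype ι] [DecidableEq ι] [Fintype κ] [DecidableEq κ] (e : ι ≃ κ) :
    SpecialLinearGroup ι F ≃* SpecialLinearGroup κ F where
  toFun A := ⟨reindexAlgEquiv F F e (A : Matrix ι ι F), by rw [det_reindexAlgEquiv]; exact A.2⟩
  invFun A := ⟨reindexAlgEquiv F F e.symm (A : Matrix κ κ F), by
    rw [det_reindexAlgEquiv]; exact A.2⟩
  left_inv A := Subtype.ext (by
    ext i j
    simp)
  right_inv A := Subtype.ext (by
    ext i j
    simp)
  map_mul' A B := Subtype.ext (map_mul (reindexAlgEquiv F F e) _ _)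

end CfsgLib.KnownA.CrossChar
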