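import Cfsg.Agent.Lib.KnownA.CrossChar.Basic
import Cfsg.Agent.Lib.KnownB.MinDeg.SpSiegel

/-!
# `Sp_{2n}(q)`, `q` odd, in cross characteristic: degree at least `(q^n - 1) / 2`
-/

set_option autoImplicit false

open Matrix CfsgLib.MinDeg

namespace CfsgLib.KnownA.CrossChar

variable {F : Type*} [Field F] [Fintype F] [DecidableEq F] {n : ℕ}

theorem siegel_not_mem_center (hn : 1 ≤ n) :
    ∃ S : symMat F n, siegel S ∉ Subgroup.center (symplecticGroup (Fin n) F) := by
  let i : Fin n := ⟨0, hn⟩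
  refine ⟨rootS i 1, fun h => ?_⟩
  have hJ := Subgroup.mem_center_iff.1 h ⟨Matrix.J (Fin n) F, SymplecticGroup.J_mem (Fin n) F⟩
  have := congrFun (congrFun (congrArg Subtype.val hJ) (Sum.inr i)) (Sum.inr i)
  simp [siegel_coe, Matrix.J, Matrix.fromBlocks_multiply, rootS] at this

theorem sp_bound (hn : 1 ≤ n) (hodd : Odd (Fintype.card F)) {K : Type*} [Field K]
    (hK : ringChar K ≠ ringChar F) {d : ℕ}
    (ρ : symplecticGroup (Fin n) F →* GL (Fin d) K)
    (hker : ρ.ker ≤ Subgroup.center (symplecticGroup (Fin n) F)) :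
    (Fintype.card F ^ n - 1) / 2 ≤ d := by
  classical
  have hK' : ringChar (AlgebraicClosure K) ≠ ringChar F := by
    have := ringChar.charP K
    have : CharP (AlgebraicClosure K) (ringChar K) :=
      charP_of_injective_algebraMap (algebraMap K (AlgebraicClosure K)).injective _
    rwa [ringChar.eq (AlgebraicClosure K) (ringChar K)]
  have hcard := cast_card_ne_zero (F := F) hK'
  obtain ⟨ψ, hψ⟩ := exists_addChar (F := F) hcard
  let β : symMat F n →+ symMat F n →+ F :=
    AddMonoidHom.mk' (fun B => AddMonoidHom.mk'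
        (fun S => Matrix.trace ((B : Matrix (Fin n) (Fin n) F) * (S : Matrix (Fin n) (Fin n) F)))
        (fun S T => by simp [Matrix.mul_add]))
      (fun B C => AddMonoidHom.ext fun S => by simp [Matrix.add_mul])
  have hβ : ∀ B S : symMat F n, β B S =
      Matrix.trace ((B : Matrix (Fin n) (Fin n) F) * (S : Matrix (Fin n) (Fin n) F)) := fun B S => rfl
  have hnd : ∀ B : symMat F n, B ≠ 0 → ∃ S, ψ (β B S) ≠ 1 := by
    intro B hB
    have hB' : (B : Matrix (Fin n) (Fin n) F) ≠ 0 := fun h => hB (Subtype.ext h)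
    obtain ⟨i, hi⟩ := Function.ne_iff.1 hB'
    obtain ⟨j, hij⟩ := Function.ne_iff.1 hi
    have hji : (B : Matrix (Fin n) (Fin n) F) j i = (B : Matrix (Fin n) (Fin n) F) i j :=
      congrFun (congrFun (symMat_eq B) i) j
    let c : F := (2 * (B : Matrix (Fin n) (Fin n) F) i j)⁻¹
    refine ⟨⟨Matrix.single i j c + Matrix.single j i c, by
      show (_)ᵀ = _
      rw [transpose_add, transpose_single, transpose_single, add_comm]⟩, ?_⟩
    rw [hβ, Matrix.mul_add, Matrix.trace_add, Matrix.trace_mul_single, Matrix.trace_mul_single,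
      op_smul_eq_mul, op_smul_eq_mul, hji, ← two_mul, ← mul_assoc,
      mul_inv_cancel₀ (mul_ne_zero (two_ne_zero_of_odd hodd) hij)]
    exact hψ
  have hcardX : (Fintype.card (symMat F n) : K) ≠ 0 := by
    obtain ⟨p, hp⟩ := CharP.exists F
    obtain ⟨k, hprime, hk⟩ := FiniteField.card F p
    have hdvd : Fintype.card (symMat F n) ∣ Fintype.card F ^ (n * n) := by
      rw [← Nat.card_eq_fintype_card, ← Nat.card_eq_fintype_card]
      refine (AddSubgroup.card_addSubgroup_dvd_card (symMat F n)).trans (dvd_of_eq ?_)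
      simp [Matrix, ← pow_mul]
    intro h0
    obtain ⟨c, hc⟩ := hdvd
    have := congrArg (Nat.cast : ℕ → K) hc
    rw [Nat.cast_pow, Nat.cast_mul, h0, zero_mul] at this
    exact cast_card_ne_zero (F := F) hK (pow_eq_zero_iff'.1 this).1
  have h := orbit_bound (closureRep ρ) siegel siegel_add ?_
    (by
      rw [← map_natCast (algebraMap K (AlgebraicClosure K))]
      exact (map_ne_zero _).2 hcardX)
    ψ β hnd ?_ ((Fintype.card F ^ n - 1) / 2) ?_
  · rwa [Module.finrank_fintype_fun_eq_card, Fintype.card_fin] at h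
  · by_contra hc
    push Not at hc
    obtain ⟨S, hS⟩ := siegel_not_mem_center (F := F) hn
    exact hS (hker (closureRep_eq_one ρ (hc S)))
  · intro S hS
    obtain ⟨B, hB⟩ := hnd S hS
    refine ⟨B, ?_⟩
    rw [hβ, Matrix.trace_mul_comm]
    exact hB
  · intro B hB
    obtain ⟨O, hO, hOA⟩ := sym_orbit hodd (B := (B : Matrix (Fin n) (Fin n) F)) B.2
      (fun h => hB (Subtype.ext h))
    have hsub : O ⊆ Subtype.val '' {B' : symMat F n | (B' : Matrix (Fin n) (Fin n) F) ∈ O} := by
      intro B' hB'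
      obtain ⟨A, rfl⟩ := hOA B' hB'
      refine ⟨⟨_, ?_⟩, hB', rfl⟩
      show (_)ᵀ = _
      rw [transpose_mul, transpose_mul, transpose_transpose, symMat_eq, Matrix.mul_assoc]
    refine ⟨{B' : symMat F n | (B' : Matrix (Fin n) (Fin n) F) ∈ O}, hO.trans ?_, fun B' hB' => ?_⟩
    · refine (Set.ncard_le_ncard hsub (Set.toFinite _)).trans (Set.ncard_image_le (Set.toFinite _))
    · obtain ⟨A, hA⟩ := hOA _ hB'
      refine ⟨levi A, congS (A : Matrix (Fin n) (Fin n) F), levi_siegel A, fun S => ?_⟩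
      rw [hβ, hβ, hA]
      simp only [congS]
      rw [Matrix.mul_assoc, Matrix.mul_assoc, Matrix.trace_mul_comm]
      simp only [Matrix.mul_assoc]

end CfsgLib.KnownA.CrossChar
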